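import Mathlib.Algebra.Homology.DerivedCategory.ExactFunctor
import Mathlib.Algebra.Homology.ShortComplex.ExactFunctor
import Mathlib.CategoryTheory.Localization.Adjunction
import Mathlib.CategoryTheory.Adjunction.FullyFaithful
import Mathlib.Algebra.Homology.Additive
import Mathlib.Algebra.Homology.DerivedCategory.HomologySequence
import Mathlib.CategoryTheory.Monad.Adjunction

/-!
An exact adjunction with invertible counit on derived categories.
-/

set_option autoImplicit false
set_option backward.defeqAttrib.useBackward true
set_option backward.isDefEq.respectTransparency false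
set_option backward.isDefEq.respectTransparency.types false

universe w₁ w₂ v₁ v₂ u₁ u₂

open CategoryTheory CategoryTheory.Limits

namespace Groth.L10.ExactAdj

variable {A : Type u₁} [Category.{v₁} A] [Abelian A] [HasDerivedCategory.{w₁} A]
  {B : Type u₂} [Category.{v₂} B] [Abelian B] [HasDerivedCategory.{w₂} B]
  {L : A ⥤ B} {R : B ⥤ A} [L.Additive] [R.Additive]
  [PreservesFiniteLimits L] [PreservesFiniteColimits L] [PreservesFiniteLimits R] [PreservesFiniteColimits R]

/-- complexes -/
noncomputable abbrev cx (F : A ⥤ B) [F.Additive] : CochainComplex A ℤ ⥤ CochainComplex B ℤ :=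
  F.mapHomologicalComplex (ComplexShape.up ℤ)

/-- the adjunction on complexes -/
noncomputable def adjCx (adj : L ⊣ R) :
    L.mapHomologicalComplex (ComplexShape.up ℤ) ⊣ R.mapHomologicalComplex (ComplexShape.up ℤ) :=
  Adjunction.mkOfUnitCounit
    { unit :=
        { app := fun K =>
            { f := fun i => adj.unit.app (K.X i)
              comm' := fun i j _ => (adj.unit.naturality (K.d i j)).symm }
          naturality := fun K K' φ => by
            ext i
            exact adj.unit.naturality (φ.f i) }
      counit :=
        { app := fun K =>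
            { f := fun i => adj.counit.app (K.X i)
              comm' := fun i j _ => (adj.counit.naturality (K.d i j)).symm }
          naturality := fun K K' φ => by
            ext i
            exact adj.counit.naturality (φ.f i) }
      left_triangle := by
        ext K i
        simp
      right_triangle := by
        ext K i
        simp }

/-- the derived adjunction -/
noncomputable def adjD (adj : L ⊣ R) : L.mapDerivedCategory ⊣ R.mapDerivedCategory :=
  letI : CatCommSq (L.mapHomologicalComplex (ComplexShape.up ℤ)) DerivedCategory.Q DerivedCategory.Q L.mapDerivedCategory :=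
    ⟨L.mapDerivedCategoryFactors.symm⟩
  letI : CatCommSq (R.mapHomologicalComplex (ComplexShape.up ℤ)) DerivedCategory.Q DerivedCategory.Q R.mapDerivedCategory :=
    ⟨R.mapDerivedCategoryFactors.symm⟩
  (adjCx adj).localization DerivedCategory.Q (HomologicalComplex.quasiIso A (ComplexShape.up ℤ))
    DerivedCategory.Q (HomologicalComplex.quasiIso B (ComplexShape.up ℤ))
    L.mapDerivedCategory R.mapDerivedCategory

variable (adj : L ⊣ R) [IsIso adj.counit]

include adj in
theorem fullyFaithful : R.mapDerivedCategory.Full ∧ R.mapDerivedCategory.Faithful := by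
  haveI : ∀ K, IsIso ((adjCx adj).counit.app K) := fun K => by
    haveI : ∀ i, IsIso (((adjCx adj).counit.app K).f i) := fun i => inferInstanceAs (IsIso (adj.counit.app (K.X i)))
    exact HomologicalComplex.Hom.isIso_of_components _
  haveI : IsIso (adjCx adj).counit := NatIso.isIso_of_isIso_app _
  letI : Localization.Lifting DerivedCategory.Q (HomologicalComplex.quasiIso B (ComplexShape.up ℤ))
      DerivedCategory.Q (𝟭 (DerivedCategory B)) := ⟨Functor.rightUnitor _⟩
  letI : Localization.Lifting DerivedCategory.Q (HomologicalComplex.quasiIso B (ComplexShape.up ℤ))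
      ((R.mapHomologicalComplex (ComplexShape.up ℤ) ⋙ L.mapHomologicalComplex (ComplexShape.up ℤ)) ⋙ DerivedCategory.Q)
      (R.mapDerivedCategory ⋙ L.mapDerivedCategory) :=
    ⟨(Functor.associator _ _ _).symm ≪≫ Functor.isoWhiskerRight R.mapDerivedCategoryFactors _ ≪≫
      Functor.associator _ _ _ ≪≫ Functor.isoWhiskerLeft _ L.mapDerivedCategoryFactors ≪≫
      (Functor.associator _ _ _).symm⟩
  let e : R.mapDerivedCategory ⋙ L.mapDerivedCategory ≅ 𝟭 (DerivedCategory B) :=
    Localization.liftNatIso DerivedCategory.Q (HomologicalComplex.quasiIso B (ComplexShape.up ℤ))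
      ((R.mapHomologicalComplex (ComplexShape.up ℤ) ⋙ L.mapHomologicalComplex (ComplexShape.up ℤ)) ⋙ DerivedCategory.Q)
      DerivedCategory.Q _ _
      (Functor.isoWhiskerRight (asIso (adjCx adj).counit) _ ≪≫ Functor.leftUnitor _)
  haveI := (adjD adj).isIso_counit_of_iso e
  exact ⟨(adjD adj).fullyFaithfulROfIsIsoCounit.full, (adjD adj).fullyFaithfulROfIsIsoCounit.faithful⟩

/-- homology of the image -/
noncomputable def homologyIso (C : CochainComplex B ℤ) (n : ℤ) :
    (DerivedCategory.homologyFunctor A n).obj (R.mapDerivedCategory.obj (DerivedCategory.Q.obj C)) ≅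
      R.obj (C.homology n) :=
  (DerivedCategory.homologyFunctor A n).mapIso (R.mapDerivedCategoryFactors.app C) ≪≫
    (DerivedCategory.homologyFunctorFactors A n).app _ ≪≫ (C.sc n).mapHomologyIso R

theorem isIso_unit_obj (M : B) : IsIso (adj.unit.app (R.obj M)) :=
  IsIso.of_isIso_fac_right (hh := IsIso.id _) (adj.right_triangle_components M)

include adj in
theorem essImage_iff (K : DerivedCategory A) :
    R.mapDerivedCategory.essImage K ↔ ∀ n : ℤ, IsIso (adj.unit.app ((DerivedCategory.homologyFunctor A n).obj K)) := by
  constructor
  · rintro ⟨M, ⟨e⟩⟩ n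
    haveI := isIso_unit_obj adj ((DerivedCategory.Q.objPreimage M).homology n)
    exact (NatTrans.isIso_app_iff_of_iso adj.unit
      ((homologyIso (DerivedCategory.Q.objPreimage M) n).symm ≪≫ (DerivedCategory.homologyFunctor A n).mapIso
        (R.mapDerivedCategory.mapIso (DerivedCategory.Q.objObjPreimageIso M) ≪≫ e))).1 inferInstance
  · intro h
    let C := DerivedCategory.Q.objPreimage K
    let η := (adjCx adj).unit.app C
    have hq : QuasiIso η := by
      constructor
      intro n
      rw [quasiIsoAt_iff_isIso_homologyMap]
      haveI : PreservesFiniteLimits (L ⋙ R) := comp_preservesFiniteLimits L R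
      haveI : PreservesFiniteColimits (L ⋙ R) := comp_preservesFiniteColimits L R
      haveI : (L ⋙ R).PreservesHomology := Functor.preservesHomologyOfExact _
      have hC : IsIso (adj.unit.app ((C.sc n).homology)) :=
        (NatTrans.isIso_app_iff_of_iso adj.unit ((DerivedCategory.homologyFunctor A n).mapIso
          (DerivedCategory.Q.objObjPreimageIso K).symm ≪≫ (DerivedCategory.homologyFunctorFactors A n).app C)).1 (h n)
      rw [NatTrans.app_homology adj.unit (C.sc n)] at hC
      haveI := hC
      haveI : IsIso (ShortComplex.homologyMap ((C.sc n).mapNatTrans adj.unit) ≫ ((C.sc n).mapHomologyIso (L ⋙ R)).hom) :=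
        IsIso.of_isIso_comp_left ((C.sc n).mapHomologyIso (𝟭 A)).inv _
      haveI : IsIso (ShortComplex.homologyMap ((C.sc n).mapNatTrans adj.unit)) :=
        IsIso.of_isIso_comp_right _ ((C.sc n).mapHomologyIso (L ⋙ R)).hom
      exact this
    haveI := (DerivedCategory.isIso_Q_map_iff_quasiIso _ η).2 hq
    exact ⟨DerivedCategory.Q.obj ((L.mapHomologicalComplex _).obj C),
      ⟨R.mapDerivedCategoryFactors.app _ ≪≫ (asIso (DerivedCategory.Q.map η)).symm ≪≫
        DerivedCategory.Q.objObjPreimageIso K⟩⟩

end Groth.L10.ExactAdj
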