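import Groth.Agent.L27.InjPush.Support

/-!
Etale sheaves vanishing off a closed subscheme are direct images from it.
-/

set_option autoImplicit false
set_option backward.isDefEq.respectTransparency.types false
set_option linter.style.haveILetI false

universe u

open CategoryTheory CategoryTheory.Limits AlgebraicGeometry Opposite Groth.L27

namespace Groth.L10.ExactAdj

variable {U X Z : Scheme.{u}} (j : U ⟶ X) [IsOpenImmersion j] [AlgebraicGeometry.Etale j] [EtShriek.JCont j]
  (i : Z ⟶ X) [IsClosedImmersion i] (hij : Set.range j.base = (Set.range i.base)ᶜ)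

include hij in
theorem isIso_unit_of_isZero (F : EtCoh.Ab X) (h : IsZero ((EtCoh.pull j).obj F)) :
    IsIso ((EtCoh.pullPushAdj i).unit.app F) := by
  have key : ∀ (Ω : Type u) [Field Ω] [IsSepClosed Ω] (ξ : Spec (CommRingCat.of Ω) ⟶ X),
      IsIso ((EtCoh.stalk ξ).map ((EtCoh.pullPushAdj i).unit.app F)) := by
    intro Ω _ _ ξ
    by_cases hx : ξ.base default ∈ Set.range j.base
    · have hr : Set.range ξ ⊆ Set.range j := by
        rintro - ⟨z, rfl⟩; rwa [Subsingleton.elim z default]
      obtain ⟨v, rfl⟩ : ∃ v, v ≫ j = ξ := ⟨IsOpenImmersion.lift j ξ hr, IsOpenImmersion.lift_fac j ξ hr⟩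
      have h1 : IsZero ((EtCoh.stalk (v ≫ j)).obj F) :=
        IsZero.of_iso ((EtCoh.stalk v).map_isZero h) ((EtSite.stalkPullIso j v).app F).symm
      have h2 : IsZero ((EtCoh.stalk (v ≫ j)).obj ((EtCoh.push i).obj ((EtCoh.pull i).obj F))) :=
        IsZero.of_iso ((EtCoh.stalk v).map_isZero (InjPush.isZero_pull_push j i hij _)) ((EtSite.stalkPullIso j v).app _).symm
      exact ⟨⟨0, h1.eq_of_src _ _, h2.eq_of_src _ _⟩⟩
    · exact ExtZero.isIso_stalk_unit_outside j i hij F ξ hx
  haveI : Mono ((EtCoh.pullPushAdj i).unit.app F) := (EtSite.mono_iff_stalks _).2 fun Ω _ _ ξ =>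
    haveI := key Ω ξ
    (ConcreteCategory.bijective_of_isIso ((EtCoh.stalk ξ).map ((EtCoh.pullPushAdj i).unit.app F))).1
  haveI : Epi ((EtCoh.pullPushAdj i).unit.app F) := (EtSite.epi_iff_stalks _).2 fun Ω _ _ ξ =>
    haveI := key Ω ξ
    (ConcreteCategory.bijective_of_isIso ((EtCoh.stalk ξ).map ((EtCoh.pullPushAdj i).unit.app F))).2
  exact isIso_of_mono_of_epi _

end Groth.L10.ExactAdj
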